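import Groth.Agent.ParaFUFD.Punctured
import Mathlib

/-!
# Global elements of a ring of depth two from local data on the punctured spectrum
-/

set_option autoImplicit false
set_option backward.isDefEq.respectTransparency false
set_option backward.isDefEq.respectTransparency.types false

noncomputable section

universe u

open CategoryTheory AlgebraicGeometry TopologicalSpace Opposite IsLocalRing
open Groth.Agent.QCohBase Groth.Agent.ParaFUFD

namespace Groth.Agent.ParaFPS

variable {C : Type u} [CommRing C] [IsLocalRing C]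

local notation "P" => Spec (CommRingCat.of C)

theorem val_glo (x : PrimeSpectrum C) (W : (P).Opens) (hx : (x : P) ∈ W) (c : C) :
    ((show ((AlgebraicGeometry.structureSheafInType C C).obj.obj (op W)) from glo W c).1 ⟨x, hx⟩) =
      algebraMap C (Localization.AtPrime x.asIdeal) c := rfl

/-- An element of a ring of depth two vanishing at every non-closed point is zero. -/
theorem eq_zero_of_punctured (hC : Function.Bijective (ores (X := P) (le_top : FEt.puncturedSpec C ≤ ⊤)))
    {c : C} (h : ∀ p : PrimeSpectrum C, p ≠ closedPoint C → algebraMap C (Localization.AtPrime p.asIdeal) c = 0) :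
    c = 0 := by
  have h0 : glo (FEt.puncturedSpec C) c = glo (FEt.puncturedSpec C) 0 := by
    refine Subtype.ext (funext fun (x : FEt.puncturedSpec C) => ?_)
    exact (val_glo x.1 _ x.2 c).trans ((h x.1 x.2).trans (by rw [← map_zero (algebraMap C (Localization.AtPrime x.1.asIdeal))]; exact (val_glo x.1 _ x.2 0).symm))
  rw [← ores_glo le_top, ← ores_glo (W' := FEt.puncturedSpec C) le_top 0] at h0
  have h1 := hC.1 h0
  simpa [glo, ores] using congrArg ((Scheme.ΓSpecIso (CommRingCat.of C)).hom) h1

/-- A locally fractional family on the punctured spectrum comes from an element. -/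
theorem exists_of_locally_fraction (hC : Function.Bijective (ores (X := P) (le_top : FEt.puncturedSpec C ≤ ⊤)))
    (σ : ∀ p : PrimeSpectrum C, p ≠ closedPoint C → Localization.AtPrime p.asIdeal)
    (hσ : ∀ p : PrimeSpectrum C, p ≠ closedPoint C → ∃ r s : C, s ∉ p.asIdeal ∧
      ∀ q : PrimeSpectrum C, ∀ hq : q ≠ closedPoint C, s ∉ q.asIdeal →
        σ q hq * algebraMap C _ s = algebraMap C _ r) :
    ∃ c : C, ∀ p : PrimeSpectrum C, ∀ hp : p ≠ closedPoint C,
      algebraMap C (Localization.AtPrime p.asIdeal) c = σ p hp := by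
  let U : Opens (PrimeSpectrum.Top C) := FEt.puncturedSpec C
  let t : (AlgebraicGeometry.structureSheafInType C C).obj.obj (op U) := ⟨fun x => σ x.1 x.2, fun x => by
    obtain ⟨r, s, hs, h⟩ := hσ x.1 x.2
    refine ⟨U ⊓ PrimeSpectrum.basicOpen s, ⟨x.2, hs⟩, Opens.infLELeft _ _, r, s, fun y => ⟨y.2.2, ?_⟩⟩
    show σ y.1 y.2.1 = _
    have hu := IsLocalization.map_units (Localization.AtPrime y.1.asIdeal) (⟨s, y.2.2⟩ : y.1.asIdeal.primeCompl)
    refine hu.mul_right_cancel ((h y.1 y.2.1 y.2.2).trans ?_)
    show _ = Localization.mk r ⟨s, y.2.2⟩ * _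
    rw [Localization.mk_eq_mk', IsLocalization.mk'_spec]⟩
  obtain ⟨c, hc⟩ := hC.2 t
  refine ⟨(Scheme.ΓSpecIso (CommRingCat.of C)).hom c, fun p hp => ?_⟩
  have : glo (FEt.puncturedSpec C) ((Scheme.ΓSpecIso (CommRingCat.of C)).hom c) = t := by
    rw [← hc, glo, CategoryTheory.Iso.hom_inv_id_apply]
  have h2 := congrArg (fun s => (show ((AlgebraicGeometry.structureSheafInType C C).obj.obj (op U)) from s).1 ⟨p, hp⟩) this
  exact (val_glo p _ hp _).symm.trans h2

end Groth.Agent.ParaFPS
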